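import Mathlib.AlgebraicGeometry.AffineTransitionLimit
import Mathlib.AlgebraicGeometry.Morphisms.SchemeTheoreticallyDominant

/-!
# Morphisms from limits with schematically dominant transition maps to schemes of finite type

The gluing argument follows the proof of
`AlgebraicGeometry.Scheme.exists_π_app_comp_eq_of_locallyOfFinitePresentation` in Mathlib
(Andrew Yang, Christian Merten), with the affine step replaced.
-/

set_option autoImplicit false
set_option linter.style.haveILetI false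
set_option linter.unusedSectionVars false

universe u

open CategoryTheory Limits AlgebraicGeometry AlgebraicGeometry.Scheme TopologicalSpace

namespace Groth.Agent.LimDomLib

variable {I : Type u} [Category.{u} I] {S X : Scheme.{u}} (D : I ⥤ Scheme.{u})
  (t : D ⟶ (Functor.const I).obj S) (f : X ⟶ S) (c : Cone D) (hc : IsLimit c)

include hc in
theorem isSchemeTheoreticallyDominant_π [IsCofiltered I] [∀ {i j} (f : i ⟶ j), IsAffineHom (D.map f)]
    (hd : ∀ (i j : I) (g : i ⟶ j), IsSchemeTheoreticallyDominant (D.map g)) (i : I) :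
    IsSchemeTheoreticallyDominant (c.π.app i) := by
  haveI := isAffineHom_π_app D c hc i
  refine ⟨IdealSheafData.ext (funext fun U => ?_)⟩
  rw [Scheme.Hom.ker_apply, IdealSheafData.ideal_bot, Pi.bot_apply, eq_bot_iff]
  intro s hs
  obtain ⟨j, g, hg⟩ := exists_app_map_eq_zero_of_isLimit D c hc (i := i) U.2.isCompact s hs
  haveI := hd j i g
  exact (Submodule.mem_bot _).2 ((D.map g).app_injective U.1 (hg.trans (map_zero _).symm))

include hc in
theorem isSchemeTheoreticallyDominant_opensCone [IsCofiltered I] [∀ {i j} (f : i ⟶ j), IsAffineHom (D.map f)]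
    (hπ : ∀ i, IsSchemeTheoreticallyDominant (c.π.app i)) (i : I) (U : (D.obj i).Opens) (j : Over i) :
    IsSchemeTheoreticallyDominant ((opensCone D c i U).π.app j) := by
  haveI := hπ j.left
  haveI := isAffineHom_π_app D c hc j.left
  refine IsSchemeTheoreticallyDominant.of_isPullback (f := c.π.app j.left) (g := (D.map j.hom ⁻¹ᵁ U).ι)
    (pX := (c.π.app i ⁻¹ᵁ U).ι) ?_
  refine (IsOpenImmersion.isPullback _ _ _ _ ?_ ?_).flip
  · simp
  · simp [← Scheme.Hom.comp_preimage]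

include hc in
theorem exists_π_app_comp_eq_of_isAffine [IsCofiltered I] [LocallyOfFiniteType f]
    [IsAffine S] [IsAffine X] [∀ i, IsAffine (D.obj i)]
    (hπ : ∀ i, IsSchemeTheoreticallyDominant (c.π.app i))
    (a : c.pt ⟶ X) (ha : c.π ≫ t = (Functor.const _).map (a ≫ f)) :
    ∃ (i : I) (g : D.obj i ⟶ X), c.π.app i ≫ g = a ∧ g ≫ f = t.app i := by
  classical
  have hft : f.appTop.hom.FiniteType := (HasRingHomProperty.iff_of_isAffine (P := @LocallyOfFiniteType)).1 ‹_›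
  algebraize [f.appTop.hom]
  obtain ⟨n, φ, hφ⟩ := Algebra.FiniteType.iff_quotient_mvPolynomial''.1 hft
  let R : CommRingCat.{u} := CommRingCat.of (MvPolynomial (Fin n) Γ(S, ⊤))
  let e : Γ(S, ⊤) ⟶ R := CommRingCat.ofHom MvPolynomial.C
  let q : R ⟶ Γ(X, ⊤) := CommRingCat.ofHom φ.toRingHom
  let p : Spec R ⟶ S := Spec.map e ≫ S.isoSpec.inv
  let j : X ⟶ Spec R := X.isoSpec.hom ≫ Spec.map q
  haveI : IsClosedImmersion (Spec.map q) := IsClosedImmersion.spec_of_surjective q hφ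
  haveI : LocallyOfFinitePresentation (Spec.map e) := by
    rw [HasRingHomProperty.Spec_iff (P := @LocallyOfFinitePresentation)]
    exact RingHom.finitePresentation_algebraMap.2 (inferInstance :
      Algebra.FinitePresentation Γ(S, ⊤) (MvPolynomial (Fin n) Γ(S, ⊤)))
  have heq : e ≫ q = f.appTop := CommRingCat.hom_ext φ.comp_algebraMap
  have hjp : j ≫ p = f := by
    simp only [j, p, Category.assoc]
    rw [← Spec.map_comp_assoc, heq, ← Category.assoc, isoSpec_hom_naturality, Category.assoc, Iso.hom_inv_id,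
      Category.comp_id]
  haveI : ∀ {i j : I} (g : i ⟶ j), IsAffineHom (D.map g) := fun g => inferInstance
  haveI : ∀ i, QuasiCompact (c.π.app i) := fun i => by
    haveI := isAffineHom_π_app D c hc i
    infer_instance
  obtain ⟨i, g, hg, hg'⟩ := exists_π_app_comp_eq_of_locallyOfFinitePresentation D t p c hc (a ≫ j)
    (by rw [ha, Category.assoc, hjp])
  have hle : j.ker ≤ g.ker := by
    haveI := hπ i
    have h1 : (c.π.app i ≫ g).ker = g.ker := by
      rw [Scheme.Hom.ker_comp, (c.π.app i).ker_eq_bot, IdealSheafData.map_bot]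
    rw [← h1, hg]
    exact Scheme.Hom.le_ker_comp a j
  refine ⟨i, IsClosedImmersion.lift j g hle, ?_, ?_⟩
  · rw [← cancel_mono j, Category.assoc, IsClosedImmersion.lift_fac, hg]
  · rw [← hjp, IsClosedImmersion.lift_fac_assoc, hg']

set_option backward.defeqAttrib.useBackward true in
set_option backward.isDefEq.respectTransparency false in
include hc in
/-- Morphisms from the limit to a scheme of finite type descend, if the projections are schematically dominant. -/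
theorem exists_π_app_comp_eq_of_locallyOfFiniteType
    [IsCofiltered I] [LocallyOfFiniteType f]
    [∀ {i j} (f : i ⟶ j), IsAffineHom (D.map f)]
    [∀ i, CompactSpace (D.obj i)] [∀ i, QuasiSeparatedSpace (D.obj i)]
    (hπ : ∀ i, IsSchemeTheoreticallyDominant (c.π.app i))
    (a : c.pt ⟶ X) (ha : c.π ≫ t = (Functor.const _).map (a ≫ f)) :
    ∃ (i : I) (g : D.obj i ⟶ X), c.π.app i ≫ g = a ∧ g ≫ f = t.app i := by
  -- The open cover of `c := lim Dᵢ` indexed by triplets of affine opens `(U, V, W)` with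
  -- `U ⊆ c`, `V ⊆ X`, `W ⊆ S` such that `U` maps to `V` maps to `W`.
  have 𝒰 := (c.pt.isBasis_affineOpens).isOpenCover_mem_and_le
    (((X.isBasis_affineOpens).isOpenCover_mem_and_le
    ((S.isBasis_affineOpens).isOpenCover.comap f.base.hom)).comap a.base.hom)
  -- By qcqs, this cover descends to some finite affine open cover `𝒱` of `Dᵢ`.
  obtain ⟨i, s, 𝒱, h𝒱, h𝒱𝒰⟩ := Scheme.exists_isOpenCover_and_isAffine D c hc _ 𝒰 fun U ↦ U.2.1
  obtain ⟨i', fi'i, hi'⟩ : ∃ (i' : I) (fi'i : i' ⟶ i),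
      ∀ j, D.map fi'i ⁻¹ᵁ 𝒱 j ≤ t.app i' ⁻¹ᵁ j.1.1.2.1.2.1 := by
    choose k fk hk using fun j ↦ exists_map_preimage_le_map_preimage D c hc (h𝒱𝒰 j).1.isCompact
      (V := t.app i ⁻¹ᵁ j.1.1.2.1.2.1) (by
      rw [← Hom.comp_preimage, ← NatTrans.comp_app, ha]
      exact (h𝒱𝒰 j).2.symm.trans_le (j.1.prop.2.trans (a.preimage_mono j.1.1.2.prop.2)))
    obtain ⟨i', fi'i, fi', hfi'⟩ := IsCofiltered.wideCospan fk
    refine ⟨i', fi'i, fun j ↦ ?_⟩
    rw [← hfi', Functor.map_comp, Hom.comp_preimage]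
    refine (Hom.preimage_mono _ (hk _)).trans ?_
    simp only [← Hom.comp_preimage, t.naturality, Functor.const_obj_obj,
      Functor.const_obj_map, Category.comp_id, le_refl]
  -- Using the affine version `exists_π_app_comp_eq_of_locallyOfFinitePresentation_of_isAffine`,
  -- one can now factor `Dⱼ ⁻¹ 𝒱ⱼ ⟶ lim Dᵢ ⟶ X` through some `Dⱼₖ ⁻¹ 𝒱ⱼ` for each `𝒱ⱼ`,
  -- and by finite-ness we may chose a fixed `k` that works for every `j`.
  have : ∃ k, ∃ (fk : k ⟶ i), ∀ j, ∃ (ak : ↑(D.map fk ⁻¹ᵁ 𝒱 j) ⟶ X),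
      ak ≫ f = Opens.ι _ ≫ t.app k ∧ c.π.app _ ∣_ _ ≫ ak = Opens.ι _ ≫ a := by
    let 𝒱' := (D.map fi'i ⁻¹ᵁ 𝒱 ·)
    have h𝒱'𝒰 (j : s) : c.π.app i' ⁻¹ᵁ 𝒱' j = j.1.1.1 := by
      rw [← Hom.comp_preimage, c.w fi'i]; exact (h𝒱𝒰 j).2.symm
    have _ (j k) : IsAffine ((opensDiagram D i' (𝒱' j)).obj k) := ((h𝒱𝒰 _).1.preimage _).preimage _
    let t𝒱 (j : _) : opensDiagram D i' (𝒱' j) ⟶ (Functor.const (Over i')).obj j.1.1.2.1.2 :=
    { app k := (t.app k.left).resLE _ _ <| by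
        refine (Hom.preimage_mono _ (hi' _)).trans ?_
        simp only [Functor.const_obj_obj, ← Hom.comp_preimage, t.naturality,
          Functor.const_obj_map, Category.comp_id, le_refl]
      naturality {k₁ k₂} f₁₂ := by simp [Hom.resLE_comp_resLE] }
    have (j : s) : IsAffine j.1.1.2.1.1 := j.1.1.2.prop.1
    choose k ak hk hk' using fun j ↦ exists_π_app_comp_eq_of_isAffine
      _ (t𝒱 j) (f.resLE _ _ j.1.1.2.prop.2) _ (isLimitOpensCone D c hc i' (𝒱' j))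
      (isSchemeTheoreticallyDominant_opensCone D c hc hπ i' (𝒱' j))
      (a.resLE _ _ ((h𝒱'𝒰 _).trans_le j.1.prop.2)) (by
      ext k
      simp [t𝒱, Hom.resLE_comp_resLE, show c.π.app k.left ≫ t.app k.left = a ≫ f from
        congr(($ha).app k.left)])
    obtain ⟨i'', fi''i', fi'', hi''⟩ := IsCofiltered.wideCospan fun j ↦ (k j).hom
    refine ⟨i'', fi''i' ≫ fi'i, fun j ↦
      ⟨Scheme.homOfLE _ ?_ ≫ D.map (fi'' _) ∣_ _ ≫ ak j ≫ Opens.ι _, ?_, ?_⟩⟩
    · simp only [← Hom.comp_preimage, ← Functor.map_comp, 𝒱', reassoc_of% hi'']; rfl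
    · have : ak j ≫ Opens.ι _ ≫ f = Opens.ι _ ≫ t.app (k j).left := by
        simpa [t𝒱] using! congr($(hk' j) ≫ Opens.ι _)
      simp [this]
    · have e : c.π.app i'' ⁻¹ᵁ D.map (fi''i' ≫ fi'i) ⁻¹ᵁ 𝒱 j ≤ c.π.app i' ⁻¹ᵁ 𝒱' j := by
        simp only [← Hom.comp_preimage, Cone.w, 𝒱']; rfl
      simpa [← AlgebraicGeometry.Scheme.Hom.resLE_eq_morphismRestrict,
        Scheme.Hom.resLE_comp_resLE_assoc] using! congr(Scheme.homOfLE _ e ≫ $(hk j) ≫ Opens.ι _)
  choose k fki ak hak hak' using this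
  -- We may then find an `l` for each `j₁` and `j₂` such that the map `Dⱼ₁ₗ ⁻¹ 𝒱ⱼ₁ ⟶ X` and
  -- `Dⱼ₂ₗ ⁻¹ 𝒱ⱼ₂ ⟶ X` agrees on the intersection in `Dₗ`.
  -- And again by finiteness we may choose a global `l`.
  obtain ⟨l, flk, hl⟩ : ∃ (l : I) (flk : l ⟶ k), ∀ j₁ j₂, Scheme.homOfLE _ inf_le_left ≫
      D.map flk ∣_ _ ≫ ak j₁ = Scheme.homOfLE _ inf_le_right ≫ D.map flk ∣_ _ ≫ ak j₂ := by
    let 𝒱' := (D.map fki ⁻¹ᵁ 𝒱 ·)
    have (j₁ j₂ : s) : ∃ (l : I) (flk : l ⟶ k), Scheme.homOfLE _ inf_le_left ≫ D.map flk ∣_ _ ≫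
        ak j₁ = Scheme.homOfLE _ inf_le_right ≫ D.map flk ∣_ _ ≫ ak j₂ := by
      have _ (x) : CompactSpace ↥((opensDiagram D k (𝒱' j₁ ⊓ 𝒱' j₂)).obj x) :=
        isCompact_iff_compactSpace.mp (QuasiCompact.isCompact_preimage _ (𝒱' j₁ ⊓ 𝒱' j₂).isOpen
          (((h𝒱𝒰 _).1.preimage _).isCompact.inter_of_isOpen ((h𝒱𝒰 _).1.preimage _).isCompact
            (D.map fki ⁻¹ᵁ 𝒱 j₁).2 (D.map fki ⁻¹ᵁ 𝒱 j₂).2))
      obtain ⟨⟨l, ⟨⟨⟩⟩, flk⟩, ⟨flk', ⟨⟨⟨⟩⟩⟩, h⟩, e⟩ :=
        Scheme.exists_hom_comp_eq_comp_of_locallyOfFiniteType _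
          (opensDiagramι .. ≫ (Over.forget k).whiskerLeft t) f _
          (isLimitOpensCone D c hc k (𝒱' j₁ ⊓ 𝒱' j₂)) (i := .mk (𝟙 k))
          (Scheme.homOfLE _ (by simp [𝒱']) ≫ ak j₁) (Scheme.homOfLE _ (by simp [𝒱']) ≫ ak j₂)
          (by simp [hak]) (by simp [hak]) (by simp; simp [Hom.resLE, hak'])
      obtain rfl : flk = flk' := by simpa using! h.symm
      refine ⟨l, flk, by simpa [← Scheme.Hom.resLE_eq_morphismRestrict] using! e⟩
    choose l flk hflk using this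
    obtain ⟨l', fl'k, fl'l, hl'⟩ := IsCofiltered.wideCospan (I := s × s) fun x ↦ flk x.1 x.2
    refine ⟨l', fl'k, fun j₁ j₂ ↦ ?_⟩
    have H : (D.map fl'k ≫ D.map fki) ⁻¹ᵁ (𝒱 j₁ ⊓ 𝒱 j₂) ≤
        (D.map (fl'l (j₁, j₂)) ≫ D.map (flk j₁ j₂) ≫ D.map fki) ⁻¹ᵁ (𝒱 j₁ ⊓ 𝒱 j₂) := by
      simp only [← Functor.map_comp, reassoc_of% hl']; rfl
    simpa [← Scheme.Hom.resLE_eq_morphismRestrict, Scheme.Hom.resLE_comp_resLE_assoc,
      ← Functor.map_comp, hl'] using! congr((D.map (fl'l (j₁, j₂))).resLE _ _ H ≫ $(hflk j₁ j₂))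
  -- We may glue the morphisms into `Dₗ ⟶ X` and verify that it indeed satisfies the hypothesis.
  let h𝒲 := (h𝒱.comap (D.map fki).base.hom).comap (D.map flk).base.hom
  let 𝒲 := Scheme.openCoverOfIsOpenCover _ (D.map flk ⁻¹ᵁ D.map fki ⁻¹ᵁ 𝒱 ·) h𝒲
  let F := 𝒲.glueMorphisms (fun j ↦ D.map flk ∣_ D.map fki ⁻¹ᵁ 𝒱 j ≫ ak j) (fun j₁ j₂ ↦ by
      rw [← cancel_epi (isPullback_opens_inf _ _).isoPullback.hom]
      simpa [𝒲] using! hl j₁ j₂)
  have hF (j : s) : (D.map flk ⁻¹ᵁ D.map fki ⁻¹ᵁ 𝒱 j).ι ≫ F = D.map flk ∣_ _ ≫ ak j :=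
    Scheme.Cover.ι_glueMorphisms ..
  refine ⟨l, F, ?_, ?_⟩
  · refine Cover.hom_ext (𝒲.pullback₁ (c.π.app l)) _ _ fun j ↦ ?_
    rw [← cancel_epi (isPullback_morphismRestrict _ _).flip.isoPullback.hom]
    dsimp [𝒲]
    simp only [pullback.condition_assoc, IsPullback.isoPullback_hom_snd_assoc,
      IsPullback.isoPullback_hom_fst_assoc, hF]
    have h : c.π.app l ⁻¹ᵁ D.map flk ⁻¹ᵁ D.map fki ⁻¹ᵁ 𝒱 j ≤ c.π.app k ⁻¹ᵁ D.map fki ⁻¹ᵁ 𝒱 j := by
      simp only [← Hom.comp_preimage, c.w_assoc, c.w]; rfl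
    simpa [← Scheme.Hom.resLE_eq_morphismRestrict, Scheme.Hom.resLE_comp_resLE_assoc] using!
      congr(Scheme.homOfLE _ h ≫ $(hak' j))
  · refine 𝒲.hom_ext _ _ fun j ↦ ?_
    simp [F, Cover.ι_glueMorphisms_assoc, hak]; rfl


end Groth.Agent.LimDomLib
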